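import Mathlib

/-!
# Group cohomology of a representation on which the group order acts invertibly
-/

set_option autoImplicit false

universe u

open CategoryTheory CategoryTheory.Limits

namespace Groth.Agent.H18GroupCoh

variable {k Γ : Type u} [CommRing k] [Group Γ]

theorem subsingleton_iff (A : Rep.{u} k Γ) (m : ℕ) :
    Subsingleton (groupCohomology A (m + 1)) ↔
      ∀ f : (Fin (m + 1) → Γ) → A, inhomogeneousCochains.d A (m + 1) f = 0 →
        ∃ a : (Fin m → Γ) → A, inhomogeneousCochains.d A m a = f := by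
  have h1 : (groupCohomology.inhomogeneousCochains A).ExactAt (m + 1) ↔
      ∀ f : (Fin (m + 1) → Γ) → A, inhomogeneousCochains.d A (m + 1) f = 0 →
        ∃ a : (Fin m → Γ) → A, inhomogeneousCochains.d A m a = f := by
    rw [(groupCohomology.inhomogeneousCochains A).exactAt_iff' m (m + 1) (m + 2) (by simp) (by simp),
      CategoryTheory.ShortComplex.moduleCat_exact_iff]
    constructor
    · intro h f hf
      obtain ⟨a, ha⟩ := h f (by
        show (groupCohomology.inhomogeneousCochains A).d (m + 1) (m + 2) f = 0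
        rw [groupCohomology.inhomogeneousCochains.d_def]
        exact hf)
      have h5 : (groupCohomology.inhomogeneousCochains A).d m (m + 1) a = f := ha
      rw [groupCohomology.inhomogeneousCochains.d_def] at h5
      exact ⟨a, h5⟩
    · intro h f hf
      have h5 : (groupCohomology.inhomogeneousCochains A).d (m + 1) (m + 2) f = 0 := hf
      rw [groupCohomology.inhomogeneousCochains.d_def] at h5
      obtain ⟨a, ha⟩ := h f h5
      refine ⟨a, ?_⟩
      show (groupCohomology.inhomogeneousCochains A).d m (m + 1) a = f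
      rw [groupCohomology.inhomogeneousCochains.d_def]
      exact ha
  rw [← h1, HomologicalComplex.exactAt_iff_isZero_homology]
  exact ⟨fun h => @ModuleCat.isZero_of_subsingleton _ _ _ h, fun h => ModuleCat.subsingleton_of_isZero h⟩

theorem contractNth_snoc {α : Type*} (op : α → α → α) {n : ℕ} (j : Fin (n + 1)) (v : Fin (n + 1) → α) (x : α) :
    Fin.contractNth j.castSucc op (Fin.snoc v x : Fin (n + 2) → α) =
      (Fin.snoc (Fin.contractNth j op v) (if (j : ℕ) = n then op (v (Fin.last n)) x else x) : Fin (n + 1) → α) := by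
  funext i
  refine Fin.lastCases ?_ (fun i => ?_) i
  · rw [Fin.snoc_last]
    have hle : (j : ℕ) ≤ n := Fin.is_le j
    by_cases hj : (j : ℕ) = n
    · rw [if_pos hj, Fin.contractNth_apply_of_eq _ _ _ _ (by simp [hj])]
      rw [Fin.snoc_castSucc, show (Fin.last n).succ = Fin.last (n + 1) from rfl, Fin.snoc_last]
    · rw [if_neg hj, Fin.contractNth_apply_of_gt _ _ _ _ (by simp; omega),
        show (Fin.last n).succ = Fin.last (n + 1) from rfl, Fin.snoc_last]
  · rw [Fin.snoc_castSucc]
    simp only [Fin.contractNth, Fin.val_castSucc, Fin.succ_castSucc, Fin.snoc_castSucc]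

/-- summing over the last variable -/
def avg [Fintype Γ] {A : Rep.{u} k Γ} {m : ℕ} (f : (Fin (m + 1) → Γ) → A) : (Fin m → Γ) → A :=
  fun v => ∑ x : Γ, f (Fin.snoc v x)

theorem sum_d_snoc [Fintype Γ] {A : Rep.{u} k Γ} {m : ℕ} (f : (Fin (m + 1) → Γ) → A) (v : Fin (m + 1) → Γ) :
    ∑ x : Γ, inhomogeneousCochains.d A (m + 1) f (Fin.snoc v x) =
      inhomogeneousCochains.d A m (avg f) v + (-1 : k) ^ m • (Fintype.card Γ • f v) := by
  simp only [inhomogeneousCochains.d_hom_apply, Finset.sum_add_distrib, ← map_sum]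
  have h1 : ∀ x : Γ, (fun i : Fin (m + 1) => (Fin.snoc v x : Fin (m + 2) → Γ) i.succ) =
      Fin.snoc (fun i : Fin m => v i.succ) x := by
    intro x
    funext i
    refine Fin.lastCases ?_ (fun i => ?_) i
    · rw [Fin.snoc_last, show (Fin.last m).succ = Fin.last (m + 1) from rfl, Fin.snoc_last]
    · rw [Fin.snoc_castSucc, Fin.succ_castSucc, Fin.snoc_castSucc]
  have h2 : ∀ x : Γ, Fin.contractNth (Fin.last (m + 1)) (· * ·) (Fin.snoc v x : Fin (m + 2) → Γ) = v := by
    intro x
    funext i
    rw [Fin.contractNth_apply_of_lt _ _ _ _ (by simp; exact Fin.is_le i), Fin.snoc_castSucc]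
  have h0 : (Fin.snoc v (1 : Γ) : Fin (m + 2) → Γ) 0 = v 0 := by
    rw [show (0 : Fin (m + 2)) = (0 : Fin (m + 1)).castSucc from rfl, Fin.snoc_castSucc]
  have h0' : ∀ x : Γ, (Fin.snoc v x : Fin (m + 2) → Γ) 0 = v 0 := fun x => by
    rw [show (0 : Fin (m + 2)) = (0 : Fin (m + 1)).castSucc from rfl, Fin.snoc_castSucc]
  simp only [h0', h1, ← map_sum]
  refine Eq.trans ?_ (add_assoc _ _ _).symm
  congr 1
  rw [Finset.sum_comm, Fin.sum_univ_castSucc]
  congr 1
  · refine Finset.sum_congr rfl fun j _ => ?_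
    rw [← Finset.smul_sum]
    congr 1
    simp only [contractNth_snoc, avg]
    split_ifs with hj
    · exact Fintype.sum_equiv (Equiv.mulLeft (v (Fin.last m))) _ _ fun x => rfl
    · rfl
  · rw [← Finset.smul_sum]
    simp only [h2, Finset.sum_const, Finset.card_univ, Fin.val_last]
    congr 1
    rw [pow_succ, pow_succ]
    ring

/-- If `#Γ` acts bijectively on `A` then the positive degree cohomology of `A` vanishes. -/
theorem subsingleton_of_bijective_nsmul [Finite Γ] (A : Rep.{u} k Γ)
    (hA : Function.Bijective fun a : A => Nat.card Γ • a) (m : ℕ) :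
    Subsingleton (groupCohomology A (m + 1)) := by
  haveI := Fintype.ofFinite Γ
  rw [subsingleton_iff]
  intro f hf
  choose g hg using fun v => hA.2 (avg f v)
  refine ⟨(-(-1 : k) ^ m) • g, funext fun v => hA.1 ?_⟩
  show Nat.card Γ • _ = Nat.card Γ • f v
  have h := sum_d_snoc f v
  rw [hf] at h
  have h2 : avg f = Nat.card Γ • g := funext fun v => (hg v).symm
  rw [h2, map_nsmul, ← Nat.card_eq_fintype_card] at h
  simp only [Pi.zero_apply, Finset.sum_const_zero, Pi.smul_apply] at h
  have h3 := eq_neg_of_add_eq_zero_left (h.symm.trans (Finset.sum_eq_zero fun x _ => rfl))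
  rw [map_smul, Pi.smul_apply, smul_comm (Nat.card Γ), h3, neg_smul, smul_neg,
    neg_neg, smul_smul, ← mul_pow, neg_one_mul, neg_neg, one_pow, one_smul]

/-- A surjection of representations with kernel killed cohomologically. -/
theorem bijective_map_of_kernel [Finite Γ] {A B : Rep.{u} k Γ} (φ : A ⟶ B) (hs : Function.Surjective φ.hom)
    (hker : ∀ x : A, φ.hom x = 0 → ∃! y : A, φ.hom y = 0 ∧ Nat.card Γ • y = x) (n : ℕ) (hn : 1 ≤ n) :
    Function.Bijective ((groupCohomology.functor k Γ n).map φ).hom := by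
  obtain ⟨m, rfl⟩ : ∃ m, n = m + 1 := ⟨n - 1, by omega⟩
  haveI : Epi φ := (Rep.epi_iff_surjective φ).mpr hs
  let X : ShortComplex (Rep.{u} k Γ) := ShortComplex.mk (kernel.ι φ) φ (kernel.condition φ)
  have hX : X.ShortExact :=
    { exact := ShortComplex.exact_of_f_is_kernel _ (kernelIsKernel φ)
      mono_f := inferInstanceAs (Mono (kernel.ι φ))
      epi_g := inferInstanceAs (Epi φ) }
  have hinj : Function.Injective (kernel.ι φ).hom := (Rep.mono_iff_injective _).mp inferInstance
  have hz : ∀ c : (kernel φ : Rep.{u} k Γ), φ.hom ((kernel.ι φ).hom c) = 0 := fun c => by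
    show (kernel.ι φ ≫ φ).hom c = 0
    rw [kernel.condition]
    rfl
  have hmem : ∀ x : A, φ.hom x = 0 → ∃ c, (kernel.ι φ).hom c = x := by
    intro x hx
    have he' := hX.exact.map (forget₂ (Rep.{u} k Γ) (ModuleCat.{u} k))
    rw [CategoryTheory.ShortComplex.moduleCat_exact_iff] at he'
    exact he' x hx
  have hK : Function.Bijective fun c : (kernel φ : Rep.{u} k Γ) => Nat.card Γ • c := by
    constructor
    · intro c c' h
      obtain ⟨y, -, hy⟩ := hker ((kernel.ι φ).hom (Nat.card Γ • c)) (hz _)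
      exact hinj ((hy _ ⟨hz c, (map_nsmul _ _ _).symm⟩).trans
        (hy _ ⟨hz c', by rw [← map_nsmul, ← show Nat.card Γ • c = Nat.card Γ • c' from h]⟩).symm)
    · intro c
      obtain ⟨y, ⟨hy0, hy⟩, -⟩ := hker ((kernel.ι φ).hom c) (hz c)
      obtain ⟨d, rfl⟩ := hmem y hy0
      exact ⟨d, hinj (by rw [map_nsmul, hy])⟩
  have h1 : IsZero (groupCohomology (kernel φ) (m + 1)) :=
    @ModuleCat.isZero_of_subsingleton _ _ _ (subsingleton_of_bijective_nsmul _ hK m)
  have h2 : IsZero (groupCohomology (kernel φ) (m + 1 + 1)) :=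
    @ModuleCat.isZero_of_subsingleton _ _ _ (subsingleton_of_bijective_nsmul _ hK (m + 1))
  haveI hmono : Mono ((groupCohomology.functor k Γ (m + 1)).map φ) :=
    (groupCohomology.mapShortComplex₂_exact hX (m + 1)).mono_g (h1.eq_of_src _ _)
  haveI hepi : Epi ((groupCohomology.functor k Γ (m + 1)).map φ) :=
    (groupCohomology.mapShortComplex₃_exact hX (rfl : m + 1 + 1 = m + 1 + 1)).epi_f (h2.eq_of_tgt _ _)
  exact ⟨(ModuleCat.mono_iff_injective _).mp hmono, (ModuleCat.epi_iff_surjective _).mp hepi⟩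

end Groth.Agent.H18GroupCoh
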